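import Groth.Agent.RichLib.LimitDescentFlat
import Groth.Agent.RichLib.LimitDescentProps
import Groth.Agent.RichLib.LimOpen
import Groth.Agent.DepthLib.SmoothBCScheme
import Groth.Agent.AlgSpLib.Sep

/-!
# Smooth, etale and unramified morphisms at a point, in limits of schemes
-/

set_option autoImplicit false
universe u

open CategoryTheory CategoryTheory.Limits AlgebraicGeometry TopologicalSpace

noncomputable section

namespace Unram17LimLib

open RichLib.LimBC FlatLib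

variable {X Y : Scheme.{u}} (P : MorphismProperty Scheme.{u})

/-- The points near which a morphism has the property `P`. -/
def locus (f : X ⟶ Y) : Set X := {x | ∃ V : X.Opens, x ∈ V ∧ P (V.ι ≫ f)}

theorem isOpen_locus (f : X ⟶ Y) : IsOpen (locus P f) :=
  isOpen_iff_forall_mem_open.mpr fun _ ⟨V, hxV, hV⟩ => ⟨V, fun _ hy => ⟨V, hy, hV⟩, V.2, hxV⟩

theorem of_locus_eq_univ [IsZariskiLocalAtSource P] (f : X ⟶ Y) (h : ∀ x, x ∈ locus P f) : P f := by
  choose V hxV hV using h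
  let U : TopologicalSpace.IsOpenCover V :=
    TopologicalSpace.IsOpenCover.mk (eq_top_iff.mpr fun x _ => Opens.mem_iSup.mpr ⟨x, hxV x⟩)
  exact (IsZariskiLocalAtSource.iff_of_openCover (P := P) (X.openCoverOfIsOpenCover V U)).mpr hV

theorem mem_locus_of_prop [IsZariskiLocalAtSource P] {f : X ⟶ Y} (h : P f) (x : X) : x ∈ locus P f :=
  ⟨⊤, trivial, IsZariskiLocalAtSource.comp h _⟩

theorem mem_locus_baseChange [P.IsStableUnderBaseChange] {X' Y' : Scheme.{u}} {f : X ⟶ Y} {h : Y' ⟶ Y}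
    {f' : X' ⟶ Y'} {p : X' ⟶ X} (sq : IsPullback p f' f h) {x' : X'} (hx : p x' ∈ locus P f) :
    x' ∈ locus P f' := by
  obtain ⟨V, hV, hP⟩ := hx
  exact ⟨p ⁻¹ᵁ V, hV, MorphismProperty.of_isPullback (P := P) ((isPullback_morphismRestrict p V).paste_vert sq) hP⟩

theorem mem_locus_iso_comp [P.RespectsIso] {X' : Scheme.{u}} (e : X' ≅ X) (f : X ⟶ Y) (x : X') :
    x ∈ locus P (e.hom ≫ f) ↔ e.hom x ∈ locus P f := by
  constructor
  · rintro ⟨V, hx, hV⟩
    refine ⟨e.hom ''ᵁ V, ⟨x, hx, rfl⟩, ?_⟩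
    rw [← MorphismProperty.cancel_left_of_respectsIso P (e.hom.isoImage V).hom, ← Category.assoc,
      Scheme.Hom.isoImage_hom_ι, Category.assoc]
    exact hV
  · rintro ⟨V, hx, hV⟩
    refine ⟨e.hom ⁻¹ᵁ V, hx, ?_⟩
    rw [← Category.assoc, ← morphismRestrict_ι, Category.assoc, MorphismProperty.cancel_left_of_respectsIso P]
    exact hV

theorem mem_locus_comp_iso [P.RespectsIso] {Y' : Scheme.{u}} (f : X ⟶ Y) (e : Y ≅ Y') (x : X) :
    x ∈ locus P (f ≫ e.hom) ↔ x ∈ locus P f := by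
  refine exists_congr fun V => and_congr_right fun _ => ?_
  rw [← Category.assoc]
  exact MorphismProperty.cancel_right_of_respectsIso P _ _

theorem mem_locus_smooth_iff (f : X ⟶ Y) [LocallyOfFinitePresentation f] (x : X) :
    x ∈ locus @Smooth f ↔ x ∈ f.smoothLocus := by
  constructor
  · rintro ⟨V, hx, hV⟩
    have h : (⟨x, hx⟩ : V.toScheme) ∈ (V.ι ≫ f).smoothLocus := by
      haveI : Smooth (V.ι ≫ f) := hV
      rw [Scheme.Hom.smoothLocus_eq_top]; trivial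
    rw [← Scheme.Hom.preimage_smoothLocus_eq] at h
    exact h
  · intro hx
    refine ⟨f.smoothLocus, hx, Scheme.Hom.smoothLocus_eq_top_iff.mp ?_⟩
    rw [← Scheme.Hom.preimage_smoothLocus_eq]
    exact eq_top_iff.mpr fun y _ => y.2

theorem flatAt_of_mem_locus_smooth {f : X ⟶ Y} {x : X} (h : x ∈ locus @Smooth f) : FlatAt f x := by
  obtain ⟨V, hx, hV⟩ := h
  haveI : Smooth (V.ι ≫ f) := hV
  exact flatAt_of_open V inferInstance hx

theorem mem_locus_smooth_of_flatAt {X' Y' : Scheme.{u}} {f : X ⟶ Y} {h : Y' ⟶ Y} {f' : X' ⟶ Y'} {p : X' ⟶ X}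
    (sq : IsPullback p f' f h) [LocallyOfFinitePresentation f] {x' : X'} (hf : FlatAt f (p x'))
    (hx : x' ∈ locus @Smooth f') : p x' ∈ locus @Smooth f := by
  haveI : LocallyOfFinitePresentation f' :=
    MorphismProperty.of_isPullback (P := @LocallyOfFinitePresentation) sq ‹_›
  rw [mem_locus_smooth_iff] at hx ⊢
  obtain ⟨O, hO, hflat⟩ := exists_open_flat f hf
  have sq' := (isPullback_morphismRestrict p O).paste_vert sq
  have hx' : (⟨x', hO⟩ : (p ⁻¹ᵁ O).toScheme) ∈ ((p ⁻¹ᵁ O).ι ≫ f').smoothLocus := by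
    rw [← Scheme.Hom.preimage_smoothLocus_eq]
    exact hx
  have h2 := (DepthLib.mem_smoothLocus_baseChange_scheme (O.ι ≫ f) h ((p ⁻¹ᵁ O).ι ≫ f') (p ∣_ O) sq'
    (Or.inl hflat) ⟨x', hO⟩).mp hx'
  rw [← Scheme.Hom.preimage_smoothLocus_eq] at h2
  have e : O.ι ((p ∣_ O) ⟨x', hO⟩) = p x' := by
    rw [← Scheme.Hom.comp_apply, morphismRestrict_ι]; rfl
  have h3 : O.ι ((p ∣_ O) ⟨x', hO⟩) ∈ f.smoothLocus := h2
  rwa [e] at h3

variable {I : Type u} [SmallCategory I] [IsCofiltered I] {S : Scheme.{u}} (A : Sys I S) {W : Scheme.{u}}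
  (g : W ⟶ S)

/-- flatness at a point of the limit holds at some stage -/
theorem exists_flatAt_stage_general [LocallyOfFinitePresentation g] (x : ↥(pullback g A.s))
    (hx : FlatAt (pullback.snd g A.s) x) : ∃ i, FlatAt (pullback.snd g (A.t i)) (pbπ A g i x) := by
  obtain ⟨U, hU, hzU, -⟩ := exists_isAffineOpen_mem_and_subset (x := g (pullback.fst g A.s x)) (U := ⊤) trivial
  obtain ⟨W', hW', hzW, hle⟩ :=
    exists_isAffineOpen_mem_and_subset (x := pullback.fst g A.s x) (U := g ⁻¹ᵁ U) hzU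
  haveI : IsAffine U.toScheme := hU
  haveI : IsAffine W'.toScheme := hW'
  let g' : W'.toScheme ⟶ U.toScheme := g.resLE U W' hle
  have hg' : g' ≫ U.ι = W'.ι ≫ g := Scheme.Hom.resLE_comp_ι _ _
  let B := pb A U.ι
  let m : ∀ i, pullback g' (B.t i) ⟶ pullback g (A.t i) := fun i =>
    pullback.map g' (pullback.fst U.ι (A.t i)) g (A.t i) W'.ι (pullback.snd U.ι (A.t i)) U.ι hg' pullback.condition
  let mlim : pullback g' B.s ⟶ pullback g A.s :=
    pullback.map g' (pullback.fst U.ι A.s) g A.s W'.ι (pullback.snd U.ι A.s) U.ι hg' pullback.condition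
  obtain ⟨y, rfl⟩ : x ∈ Set.range mlim := by
    haveI : Mono U.ι := inferInstance
    refine (Scheme.Pullback.range_map g' (pullback.fst U.ι A.s) g A.s W'.ι (pullback.snd U.ι A.s) U.ι hg'
      pullback.condition).ge ⟨?_, ?_⟩
    · rw [Set.mem_preimage, Scheme.Opens.range_ι]; exact hzW
    obtain ⟨q, -, hq⟩ := Scheme.Pullback.exists_preimage_pullback (f := U.ι) (g := A.s)
      ⟨g (pullback.fst g A.s x), hzU⟩ (pullback.snd g A.s x) (by
        show g (pullback.fst g A.s x) = _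
        rw [← Scheme.Hom.comp_apply, pullback.condition, Scheme.Hom.comp_apply])
    exact ⟨q, hq⟩
  have hcancel : ∀ {P Q R : Scheme.{u}} (a : P ⟶ Q) (b : Q ⟶ R) [LocallyOfFinitePresentation a] [IsOpenImmersion b]
      (z : P), FlatAt (a ≫ b) z → FlatAt a z := fun a b _ _ z h => flatAt_cancel_etale h
  haveI : IsOpenImmersion mlim := inferInstanceAs (IsOpenImmersion (pullback.map _ _ _ _ _ _ _ _ _))
  have hy : FlatAt (pullback.snd g' B.s) y := by
    have h1 : FlatAt (mlim ≫ pullback.snd g A.s) y := flatAt_comp (flatAt_of_flat _ _) hx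
    have e : mlim ≫ pullback.snd g A.s = pullback.snd g' B.s ≫ pullback.snd U.ι A.s := pullback.lift_snd _ _ _
    haveI : IsOpenImmersion U.ι := inferInstance
    haveI : IsOpenImmersion (pullback.snd U.ι A.s) :=
      MorphismProperty.pullback_snd (P := @IsOpenImmersion) _ _ this
    exact @hcancel _ _ _ (pullback.snd g' B.s) (pullback.snd U.ι A.s) inferInstance this y ((flatAt_congr e y).mp h1)
  obtain ⟨i, hi⟩ := exists_flatAt_stage_of_flatAt B g' y hy
  refine ⟨i, ?_⟩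
  have hm : mlim ≫ pbπ A g i = pbπ B g' i ≫ m i := by
    refine pullback.hom_ext ?_ ?_
    · calc (mlim ≫ pbπ A g i) ≫ pullback.fst g (A.t i)
          = mlim ≫ pullback.fst g A.s := (Category.assoc _ _ _).trans (congrArg (mlim ≫ ·) (pbπ_fst A g i))
        _ = pullback.fst g' B.s ≫ W'.ι := pullback.lift_fst _ _ _
        _ = (pbπ B g' i ≫ pullback.fst g' (B.t i)) ≫ W'.ι := (congrArg (· ≫ W'.ι) (pbπ_fst B g' i)).symm
        _ = pbπ B g' i ≫ (m i ≫ pullback.fst g (A.t i)) :=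
            (Category.assoc _ _ _).trans (congrArg (pbπ B g' i ≫ ·) (pullback.lift_fst _ _ _).symm)
        _ = (pbπ B g' i ≫ m i) ≫ pullback.fst g (A.t i) := (Category.assoc _ _ _).symm
    · calc (mlim ≫ pbπ A g i) ≫ pullback.snd g (A.t i)
          = mlim ≫ pullback.snd g A.s ≫ A.c.π.app i :=
            (Category.assoc _ _ _).trans (congrArg (mlim ≫ ·) (pbπ_snd A g i))
        _ = (mlim ≫ pullback.snd g A.s) ≫ A.c.π.app i := (Category.assoc _ _ _).symm
        _ = (pullback.snd g' B.s ≫ pullback.snd U.ι A.s) ≫ A.c.π.app i :=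
            congrArg (· ≫ A.c.π.app i) (pullback.lift_snd _ _ _)
        _ = pullback.snd g' B.s ≫ (pbπ A U.ι i ≫ pullback.snd U.ι (A.t i)) :=
            (Category.assoc _ _ _).trans (congrArg (pullback.snd g' B.s ≫ ·) (pbπ_snd A U.ι i).symm)
        _ = (pbπ B g' i ≫ pullback.snd g' (B.t i)) ≫ pullback.snd U.ι (A.t i) :=
            (Category.assoc _ _ _).symm.trans (congrArg (· ≫ pullback.snd U.ι (A.t i)) (pbπ_snd B g' i).symm)
        _ = pbπ B g' i ≫ (m i ≫ pullback.snd g (A.t i)) :=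
            (Category.assoc _ _ _).trans (congrArg (pbπ B g' i ≫ ·) (pullback.lift_snd _ _ _).symm)
        _ = (pbπ B g' i ≫ m i) ≫ pullback.snd g (A.t i) := (Category.assoc _ _ _).symm
  haveI : IsOpenImmersion (m i) := inferInstanceAs (IsOpenImmersion (pullback.map _ _ _ _ _ _ _ _ _))
  have e : m i ≫ pullback.snd g (A.t i) = pullback.snd g' (B.t i) ≫ pullback.snd U.ι (A.t i) :=
    pullback.lift_snd _ _ _
  have h1 : FlatAt (m i ≫ pullback.snd g (A.t i)) (pbπ B g' i y) :=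
    (flatAt_congr e _).mpr (flatAt_comp hi (@flatAt_of_flat _ _ (pullback.snd U.ι (A.t i))
      (MorphismProperty.pullback_snd (P := @Flat) _ _ inferInstance) _))
  have h2 := flatAt_of_comp (flatAt_of_flat (m i) _) h1
  rwa [← Scheme.Hom.comp_apply, ← hm, Scheme.Hom.comp_apply] at h2

theorem exists_stage_smooth [LocallyOfFinitePresentation g] (x : ↥(pullback g A.s))
    (hx : x ∈ locus @Smooth (pullback.snd g A.s)) :
    ∃ i, pbπ A g i x ∈ locus @Smooth (pullback.snd g (A.t i)) := by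
  obtain ⟨i, hi⟩ := exists_flatAt_stage_general A g x (flatAt_of_mem_locus_smooth hx)
  exact ⟨i, mem_locus_smooth_of_flatAt (isPullback_cone A g i) hi hx⟩

theorem exists_stage_unramified [LocallyOfFiniteType g] (x : ↥(pullback g A.s))
    (hx : x ∈ locus @FormallyUnramified (pullback.snd g A.s)) :
    ∃ i, pbπ A g i x ∈ locus @FormallyUnramified (pullback.snd g (A.t i)) := by
  obtain ⟨V, hxV, hV⟩ := hx
  obtain ⟨j, V', hxV', hle⟩ : ∃ j, ∃ V' : (pullback g (A.t j)).Opens, pbπ A g j x ∈ V' ∧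
      pbπ A g j ⁻¹ᵁ V' ≤ V := RichLib.LimOpen.exists_nhd (pb A g) V.2 hxV
  haveI : FormallyUnramified ((pbπ A g j ⁻¹ᵁ V').ι ≫ pullback.snd g A.s) := by
    rw [← Scheme.homOfLE_ι _ hle, Category.assoc]
    exact MorphismProperty.comp_mem _ _ _ inferInstance hV
  have sq := (isPullback_morphismRestrict (pbπ A g j) V').flip
  refine ⟨j, ?_⟩
  have sq2 := sq.flip.paste_vert (isPullback_cone A g j)
  have h1 := RichLib.UnrLocus.mem_locus_of_isPullback (f := V'.ι ≫ pullback.snd g (A.t j)) sq2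
    ⟨x, hxV'⟩
  rw [RichLib.UnrLocus.mem_locus_comp_left_iff] at h1
  have e : V'.ι ((pbπ A g j ∣_ V') ⟨x, hxV'⟩) = pbπ A g j x := by
    rw [← Scheme.Hom.comp_apply, morphismRestrict_ι]; rfl
  have h3 : V'.ι ((pbπ A g j ∣_ V') ⟨x, hxV'⟩) ∈ RichLib.UnrLocus.locus (pullback.snd g (A.t j)) := h1
  rw [e] at h3
  exact h3

theorem mem_locus_pbMap [P.IsStableUnderBaseChange] {i j : I} (a : j ⟶ i) (x : ↥(pullback g A.s))
    (h : pbπ A g i x ∈ locus P (pullback.snd g (A.t i))) :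
    pbπ A g j x ∈ locus P (pullback.snd g (A.t j)) :=
  mem_locus_baseChange P (isPullback_map A g a) (by rwa [← Scheme.Hom.comp_apply, pbπ_map])

theorem exists_stage_etale [LocallyOfFinitePresentation g] (x : ↥(pullback g A.s))
    (hx : x ∈ locus @Etale (pullback.snd g A.s)) :
    ∃ i, pbπ A g i x ∈ locus @Etale (pullback.snd g (A.t i)) := by
  obtain ⟨V, hxV, hV⟩ := hx
  haveI : Etale (V.ι ≫ pullback.snd g A.s) := hV
  obtain ⟨i, hi⟩ := exists_flatAt_stage_general A g x (flatAt_of_open V inferInstance hxV)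
  obtain ⟨j, hj⟩ := exists_stage_unramified A g x
    ⟨V, hxV, inferInstanceAs (FormallyUnramified (V.ι ≫ pullback.snd g A.s))⟩
  obtain ⟨k, a, b, -⟩ := IsCofilteredOrEmpty.cone_objs i j
  refine ⟨k, ?_⟩
  have hk : FlatAt (pullback.snd g (A.t k)) (pbπ A g k x) := by
    refine flatAt_baseChange (isPullback_map A g a) ?_
    rw [← Scheme.Hom.comp_apply, pbπ_map]
    exact hi
  obtain ⟨V₁, hV₁, hu⟩ := mem_locus_pbMap @FormallyUnramified A g b x hj
  obtain ⟨O, hO, hf⟩ := exists_open_flat _ hk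
  haveI := hu
  haveI := hf
  refine ⟨V₁ ⊓ O, ⟨hV₁, hO⟩, ?_⟩
  haveI : FormallyUnramified ((V₁ ⊓ O).ι ≫ pullback.snd g (A.t k)) := by
    rw [← Scheme.homOfLE_ι _ (inf_le_left : V₁ ⊓ O ≤ V₁), Category.assoc]
    exact MorphismProperty.comp_mem _ _ _ inferInstance hu
  haveI : Flat ((V₁ ⊓ O).ι ≫ pullback.snd g (A.t k)) := by
    rw [← Scheme.homOfLE_ι _ (inf_le_right : V₁ ⊓ O ≤ O), Category.assoc]; infer_instance
  exact Etale.of_formallyUnramified_of_flat _

/-- a property of morphisms which descends at every point descends -/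
theorem exists_at_of_pointwise [P.IsStableUnderBaseChange] [IsZariskiLocalAtSource P] [CompactSpace W]
    (h : AtLim A g P)
    (H : ∀ x, x ∈ locus P (pullback.snd g A.s) → ∃ i, pbπ A g i x ∈ locus P (pullback.snd g (A.t i))) :
    ∃ i, At A g P i := by
  choose i hi using fun x => H x (mem_locus_of_prop P h x)
  let O : ∀ j, (pullback g (A.t j)).Opens := fun j => ⟨locus P (pullback.snd g (A.t j)), isOpen_locus P _⟩
  haveI : CompactSpace ↥(pullback g A.s) := by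
    haveI : IsAffineHom (pullback.fst g A.s) := (pb A g).affine_s
    exact QuasiCompact.compactSpace_of_compactSpace (pullback.fst g A.s)
  obtain ⟨T, hT⟩ := isCompact_univ.elim_finite_subcover
    (fun x => ((pbπ A g (i x)) ⁻¹ᵁ O (i x) : Set ↥(pullback g A.s))) (fun x => Opens.isOpen _)
    fun x _ => Set.mem_iUnion.mpr ⟨x, hi x⟩
  classical
  obtain ⟨j, hj⟩ := IsCofiltered.inf_objs_exists (T.image i)
  obtain ⟨k, φ, hk⟩ := exists_map_preimage_eq_top (pb A g) (i := j) (O j) (by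
    refine eq_top_iff.mpr fun x _ => ?_
    obtain ⟨y, hyT, hy⟩ := Set.mem_iUnion₂.mp (hT (Set.mem_univ x))
    exact mem_locus_pbMap P A g (hj (Finset.mem_image_of_mem i hyT)).some x hy)
  refine ⟨k, of_locus_eq_univ P _ fun y => ?_⟩
  exact mem_locus_baseChange P (isPullback_map A g φ) (hk.ge (Set.mem_univ y))

section Statement

variable {I : Type u} [SmallCategory I] [IsCofiltered I] (D : I ⥤ Scheme.{u}) (c : Cone D) (hc : IsLimit c)
  [∀ (i j : I) (f : i ⟶ j), IsAffineHom (D.map f)] (i₀ : I) {X₀ Y₀ : Scheme.{u}} (f₀ : X₀ ⟶ Y₀)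
  (g₀ : Y₀ ⟶ D.obj i₀) {X Y : Scheme.{u}} (f : X ⟶ Y) (g : Y ⟶ c.pt) (qY : Y ⟶ Y₀) (qX : X ⟶ X₀)
  (hY : IsPullback qY g g₀ (c.π.app i₀)) (hX : IsPullback qX f f₀ qY)

include hY hX in
theorem exists_square_to_stage {j : I} (φ : j ⟶ i₀) {Xj Yj : Scheme.{u}} {fj : Xj ⟶ Yj} {gj : Yj ⟶ D.obj j}
    {pY : Yj ⟶ Y₀} {pX : Xj ⟶ X₀} (hj : IsPullback pY gj g₀ (D.map φ)) (hj' : IsPullback pX fj f₀ pY) :
    ∃ (rX : X ⟶ Xj) (rY : Y ⟶ Yj), IsPullback rX f fj rY ∧ rX ≫ pX = qX ∧ rY ≫ gj = g ≫ c.π.app j := by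
  let rY : Y ⟶ Yj := hj.lift qY (g ≫ c.π.app j) (by rw [Category.assoc, c.w φ, hY.w])
  let rX : X ⟶ Xj := hj'.lift qX (f ≫ rY) (by rw [Category.assoc, hj.lift_fst, hX.w])
  refine ⟨rX, rY, IsPullback.of_right ?_ (hj'.lift_snd _ _ _) hj', hj'.lift_fst _ _ _, hj.lift_snd _ _ _⟩
  rw [hj'.lift_fst, hj.lift_fst]
  exact hX

include hc hY hX in
theorem iff_exists_stage [P.IsStableUnderBaseChange] [IsZariskiLocalAtSource P] [CompactSpace X₀]
    (H : ∀ (B : Sys (Over i₀) Y₀) (x : ↥(pullback f₀ B.s)), x ∈ locus P (pullback.snd f₀ B.s) →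
      ∃ φ, pbπ B f₀ φ x ∈ locus P (pullback.snd f₀ (B.t φ))) :
    P f ↔ ∃ (j : I) (φ : j ⟶ i₀) (Xj Yj : Scheme.{u}) (fj : Xj ⟶ Yj) (gj : Yj ⟶ D.obj j) (pY : Yj ⟶ Y₀)
      (pX : Xj ⟶ X₀), IsPullback pY gj g₀ (D.map φ) ∧ IsPullback pX fj f₀ pY ∧ P fj := by
  refine ⟨fun hf => descend_of_sys P D c hc i₀ f₀ g₀ f g qY qX hY hX hf fun B hB =>
    exists_at_of_pointwise P B f₀ hB (H B), ?_⟩
  rintro ⟨j, φ, Xj, Yj, fj, gj, pY, pX, hj, hj', hP⟩
  obtain ⟨rX, rY, sq, -, -⟩ := exists_square_to_stage D c i₀ f₀ g₀ f g qY qX hY hX φ hj hj'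
  exact MorphismProperty.of_isPullback (P := P) sq hP

include hc hY hX in
theorem local_iff_exists_stage [P.IsStableUnderBaseChange] [P.RespectsIso]
    (H : ∀ (B : Sys (Over i₀) Y₀) (x : ↥(pullback f₀ B.s)), x ∈ locus P (pullback.snd f₀ B.s) →
      ∃ φ, pbπ B f₀ φ x ∈ locus P (pullback.snd f₀ (B.t φ))) (x : X) :
    (∃ U : X.Opens, x ∈ U ∧ P (U.ι ≫ f)) ↔
      ∃ (j : I) (φ : j ⟶ i₀) (Xj Yj : Scheme.{u}) (fj : Xj ⟶ Yj) (gj : Yj ⟶ D.obj j) (pY : Yj ⟶ Y₀)
        (pX : Xj ⟶ X₀) (rX : X ⟶ Xj), IsPullback pY gj g₀ (D.map φ) ∧ IsPullback pX fj f₀ pY ∧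
          rX ≫ pX = qX ∧ rX ≫ fj ≫ gj = f ≫ g ≫ c.π.app j ∧ ∃ V : Xj.Opens, rX.base x ∈ V ∧ P (V.ι ≫ fj) := by
  constructor
  · intro hx
    let B := pb (ofStage D c hc i₀) g₀
    have hX' : IsPullback qX (f ≫ hY.isoPullback.hom) f₀ (pullback.fst g₀ (c.π.app i₀)) :=
      hX.of_iso (Iso.refl _) (Iso.refl _) hY.isoPullback (Iso.refl _) (by simp) (by simp) (by simp) (by simp)
    let e : X ≅ pullback f₀ B.s := hX'.isoPullback
    have he : e.hom ≫ pullback.snd f₀ B.s = f ≫ hY.isoPullback.hom := hX'.isoPullback_hom_snd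
    have hx' : e.hom x ∈ locus P (pullback.snd f₀ B.s) := by
      rw [← mem_locus_iso_comp P e, he]
      exact (mem_locus_comp_iso P f hY.isoPullback x).mpr hx
    obtain ⟨φ, hφ⟩ := H B (e.hom x) hx'
    refine ⟨φ.left, φ.hom, _, _, pullback.snd f₀ (pullback.fst g₀ (D.map φ.hom)),
      pullback.snd g₀ (D.map φ.hom), pullback.fst g₀ (D.map φ.hom), pullback.fst _ _, e.hom ≫ pbπ B f₀ φ,
      IsPullback.of_hasPullback _ _, IsPullback.of_hasPullback _ _, ?_, ?_, hφ⟩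
    · exact (Category.assoc _ _ _).trans ((congrArg (e.hom ≫ ·) (pbπ_fst B f₀ φ)).trans hX'.isoPullback_hom_fst)
    · have h1 : pbπ B f₀ φ ≫ pullback.snd f₀ (B.t φ) = pullback.snd f₀ B.s ≫ B.c.π.app φ := pbπ_snd B f₀ φ
      have h2 : B.c.π.app φ ≫ pullback.snd g₀ (D.map φ.hom) = pullback.snd g₀ (c.π.app i₀) ≫ c.π.app φ.left :=
        pbπ_snd (ofStage D c hc i₀) g₀ φ
      calc (e.hom ≫ pbπ B f₀ φ) ≫ pullback.snd f₀ (B.t φ) ≫ pullback.snd g₀ (D.map φ.hom)
          = e.hom ≫ (pbπ B f₀ φ ≫ pullback.snd f₀ (B.t φ)) ≫ pullback.snd g₀ (D.map φ.hom) := by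
            simp only [Category.assoc]
        _ = (e.hom ≫ pullback.snd f₀ B.s) ≫ B.c.π.app φ ≫ pullback.snd g₀ (D.map φ.hom) := by
            rw [h1]; simp only [Category.assoc]
        _ = (f ≫ hY.isoPullback.hom) ≫ pullback.snd g₀ (c.π.app i₀) ≫ c.π.app φ.left := by
            rw [he, h2]; rfl
        _ = f ≫ g ≫ c.π.app φ.left := by
            rw [Category.assoc, hY.isoPullback_hom_snd_assoc]
  · rintro ⟨j, φ, Xj, Yj, fj, gj, pY, pX, rX, hj, hj', h₁, h₂, V, hV, hP⟩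
    obtain ⟨rX', rY, sq, h₁', h₂'⟩ := exists_square_to_stage D c i₀ f₀ g₀ f g qY qX hY hX φ hj hj'
    obtain rfl : rX' = rX := by
      refine hj'.hom_ext (h₁'.trans h₁.symm) (hj.hom_ext ?_ ?_)
      · rw [Category.assoc, Category.assoc, ← hj'.w, ← Category.assoc, ← Category.assoc, h₁, h₁']
      · rw [Category.assoc, Category.assoc, h₂, reassoc_of% sq.w, h₂']
    exact mem_locus_baseChange P sq ⟨V, hV, hP⟩

end Statement

end Unram17LimLib
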