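import Groth.Agent.Unram17LimLib.Basic
import Groth.Agent.RichLib.FlatNoethDescent

/-!
# Descent of smooth, etale and unramified schemes to finitely generated `ℤ`-algebras
-/

set_option autoImplicit false
universe u

open CategoryTheory CategoryTheory.Limits AlgebraicGeometry TopologicalSpace RichLib.LimBC

noncomputable section

namespace Unram17LimLib

attribute [local instance] ConsLib.zAlgebra

open ConsLib RichLib.FlatNoeth

variable (P : MorphismProperty Scheme.{u}) [P.IsStableUnderBaseChange] [IsZariskiLocalAtSource P]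

theorem exists_descent_fg (A : Type u) [CommRing A] {X : Scheme.{u}} (f : X ⟶ Spec (CommRingCat.of A))
    [LocallyOfFinitePresentation f] [QuasiCompact f] [QuasiSeparated f] (hf : P f)
    (H : ∀ {I : Type u} [SmallCategory I] [IsCofiltered I] {S W : Scheme.{u}} (Z : Sys I S) (p : W ⟶ S)
      [LocallyOfFinitePresentation p] (x : ↥(pullback p Z.s)), x ∈ locus P (pullback.snd p Z.s) →
      ∃ i, pbπ Z p i x ∈ locus P (pullback.snd p (Z.t i))) :
    ∃ A₀ : Subalgebra ℤ A, A₀.FG ∧
      ∃ (X₀ : Scheme.{u}) (f₀ : X₀ ⟶ Spec (CommRingCat.of ↥A₀)) (q : X ⟶ X₀),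
        P f₀ ∧ LocallyOfFinitePresentation f₀ ∧ QuasiCompact f₀ ∧
          IsPullback q f f₀ (Spec.map (CommRingCat.ofHom (algebraMap (↥A₀) A))) := by
  let A' := zSys A
  haveI : ∀ i j (a : i ⟶ j), IsAffineHom (A'.D.map a) := fun _ _ a => A'.affine_map a
  haveI : ∀ i, IsNoetherian (A'.D.obj i) := fun i => zSys_obj _ i
  let e : Spec (CommRingCat.of A) ≅ A'.c.pt := (zSysIso _).symm
  obtain ⟨i, ⟨N⟩⟩ := DescFP.exists_model A'.hc (f ≫ e.hom)
  haveI := N.lfp
  haveI := N.qc
  haveI := N.compactSpace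
  let Z := ofStage A'.D A'.c A'.hc i
  let eX : X ≅ pullback N.p Z.s := N.sq.isoPullback
  have hX₂ : eX.hom ≫ pullback.snd N.p Z.s = f ≫ e.hom := N.sq.isoPullback_hom_snd
  have hlim : AtLim Z N.p P := by
    show P (pullback.snd N.p Z.s)
    refine (MorphismProperty.cancel_left_of_respectsIso P eX.hom _).mp ?_
    rw [hX₂]
    exact (MorphismProperty.cancel_right_of_respectsIso P f e.hom).mpr hf
  obtain ⟨ψ, hψ⟩ := exists_at_of_pointwise P Z N.p hlim fun x hx => H Z N.p x hx
  refine ⟨toZ ψ.left.unop.1, fg_toZ _ ψ.left.unop.2, _, pullback.snd N.p (Z.t ψ), eX.hom ≫ pbπ Z N.p ψ, hψ,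
    MorphismProperty.pullback_snd _ _ inferInstance, MorphismProperty.pullback_snd _ _ inferInstance, ?_⟩
  refine (isPullback_cone Z N.p ψ).of_iso eX.symm (Iso.refl _) e.symm (Iso.refl _) ?_ ?_ ?_ ?_
  · exact (Category.comp_id _).trans (Iso.inv_hom_id_assoc _ _).symm
  · exact (Iso.eq_inv_comp eX).mpr ((Category.assoc _ _ _).symm.trans ((Iso.comp_inv_eq e).mpr hX₂))
  · exact (Category.comp_id _).trans (Category.id_comp _).symm
  · exact (Category.comp_id _).trans (Iso.inv_hom_id_assoc _ _).symm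

end Unram17LimLib
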